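import Cfsg.Agent.H583.BR.Young

/-!
# S4829, `PSL_n`: numbers of matrices with margins of at most three parts

* `c3 n x y z` : the composition `(x, y, z, 0, …, 0)`;
* `G u v q` : the number of `(x, z) ≤ (u, v)` with `x + z ≤ q`; `ee u v q` : with `x + z = q`;
* `card_two`, `card_three` : the numbers of matrices with margins `(l, u, v)` and `(n - q, q)`, `(n - q - 1, q, 1)`.
-/

set_option autoImplicit false
set_option linter.unusedSectionVars false
set_option linter.unusedVariables false

namespace Cfsg.Agent.H139.CY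

open Cfsg.Agent.H139.Young

/-- the composition `(x, y, z, 0, …, 0)` -/
def c3 (n x y z : ℕ) : Fin n → ℕ := fun i => if i.1 = 0 then x else if i.1 = 1 then y else if i.1 = 2 then z else 0

theorem sum_three {n : ℕ} (hn : 3 ≤ n) (f : Fin n → ℕ) (h : ∀ i : Fin n, 3 ≤ i.1 → f i = 0) :
    ∑ i, f i = f ⟨0, by omega⟩ + f ⟨1, by omega⟩ + f ⟨2, by omega⟩ := by
  obtain ⟨k, rfl⟩ : ∃ k, n = k + 3 := ⟨n - 3, by omega⟩
  rw [Fin.sum_univ_succ, Fin.sum_univ_succ, Fin.sum_univ_succ, Finset.sum_eq_zero fun i _ => h _ ?_]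
  · simp only [add_zero]
    rw [← add_assoc]
    rfl
  · simp

theorem sum_c3 {n x y z : ℕ} (hn : 3 ≤ n) : ∑ i, c3 n x y z i = x + y + z := by
  rw [sum_three hn]
  · simp [c3]
  · intro i hi
    simp only [c3]
    rw [if_neg (by omega), if_neg (by omega), if_neg (by omega)]

theorem c3_zero {n x y z : ℕ} (h : 0 < n) : c3 n x y z ⟨0, h⟩ = x := by simp [c3]
theorem c3_one {n x y z : ℕ} (h : 1 < n) : c3 n x y z ⟨1, h⟩ = y := by simp [c3]
theorem c3_two {n x y z : ℕ} (h : 2 < n) : c3 n x y z ⟨2, h⟩ = z := by simp [c3]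
theorem c3_ge {n x y z : ℕ} {i : Fin n} (h : 3 ≤ i.1) : c3 n x y z i = 0 := by
  simp only [c3]
  rw [if_neg (by omega), if_neg (by omega), if_neg (by omega)]

/-- the matrix -/
def mat (n l u v q s : ℕ) (w : (ℕ × ℕ) × (ℕ × ℕ)) : Fin n → Fin n → ℕ := fun i =>
  if i.1 = 0 then c3 n (l - ((q - w.1.1 - w.2.1) + (s - w.1.2 - w.2.2))) (q - w.1.1 - w.2.1) (s - w.1.2 - w.2.2)
  else if i.1 = 1 then c3 n (u - (w.1.1 + w.1.2)) w.1.1 w.1.2
  else if i.1 = 2 then c3 n (v - (w.2.1 + w.2.2)) w.2.1 w.2.2
  else fun _ => 0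

/-- the set of the parameters -/
def par (u v q s : ℕ) : Finset ((ℕ × ℕ) × (ℕ × ℕ)) :=
  ((Finset.range (u + 1) ×ˢ Finset.range (u + 1)) ×ˢ (Finset.range (v + 1) ×ˢ Finset.range (v + 1))).filter
    fun w => w.1.1 + w.1.2 ≤ u ∧ w.2.1 + w.2.2 ≤ v ∧ w.1.1 + w.2.1 ≤ q ∧ w.1.2 + w.2.2 ≤ s

theorem mem_par {u v q s : ℕ} {w : (ℕ × ℕ) × (ℕ × ℕ)} :
    w ∈ par u v q s ↔ w.1.1 + w.1.2 ≤ u ∧ w.2.1 + w.2.2 ≤ v ∧ w.1.1 + w.2.1 ≤ q ∧ w.1.2 + w.2.2 ≤ s := by
  unfold par
  rw [Finset.mem_filter, Finset.mem_product, Finset.mem_product, Finset.mem_product]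
  simp only [Finset.mem_range]
  constructor
  · exact fun h => h.2
  · intro h
    refine ⟨⟨⟨?_, ?_⟩, ?_, ?_⟩, h⟩ <;> omega

/-- the matrices with given margins -/
theorem card_marg_gen {n l u v p q s : ℕ} (hn : 3 ≤ n) (h1 : l + u + v = n) (h2 : p + q + s = n) :
    Nat.card (Marg (c3 n l u v) (c3 n p q s)) =
      ((par u v q s).filter fun w => q + s ≤ l + (w.1.1 + w.1.2 + w.2.1 + w.2.2)).card := by
  have e0 : 0 < n := by omega
  have e1 : 1 < n := by omega
  have e2 : 2 < n := by omega
  -- facts about the matrices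
  have hz : ∀ (M : Marg (c3 n l u v) (c3 n p q s)) (i j : Fin n), 3 ≤ i.1 ∨ 3 ≤ j.1 → M.1 i j = 0 := by
    intro M i j h
    rcases h with h | h
    · have h3 := M.2.1 i
      rw [c3_ge h, Finset.sum_eq_zero_iff] at h3
      exact h3 j (Finset.mem_univ j)
    · have h3 := M.2.2 j
      rw [c3_ge h, Finset.sum_eq_zero_iff] at h3
      exact h3 i (Finset.mem_univ i)
  have hrow : ∀ (M : Marg (c3 n l u v) (c3 n p q s)) (i : Fin n),
      M.1 i ⟨0, e0⟩ + M.1 i ⟨1, e1⟩ + M.1 i ⟨2, e2⟩ = c3 n l u v i := by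
    intro M i
    rw [← M.2.1 i]
    exact (sum_three hn _ fun j hj => hz M i j (Or.inr hj)).symm
  have hcol : ∀ (M : Marg (c3 n l u v) (c3 n p q s)) (j : Fin n),
      M.1 ⟨0, e0⟩ j + M.1 ⟨1, e1⟩ j + M.1 ⟨2, e2⟩ j = c3 n p q s j := by
    intro M j
    rw [← M.2.2 j]
    exact (sum_three hn _ fun i hi => hz M i j (Or.inl hi)).symm
  have hrow0 := fun M => hrow M ⟨0, e0⟩
  have hrow1 := fun M => hrow M ⟨1, e1⟩
  have hrow2 := fun M => hrow M ⟨2, e2⟩
  have hcol0 := fun M => hcol M ⟨0, e0⟩
  have hcol1 := fun M => hcol M ⟨1, e1⟩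
  have hcol2 := fun M => hcol M ⟨2, e2⟩
  simp only [c3_zero, c3_one, c3_two] at hrow0 hrow1 hrow2 hcol0 hcol1 hcol2
  let f : Marg (c3 n l u v) (c3 n p q s) →
      (par u v q s).filter fun w => q + s ≤ l + (w.1.1 + w.1.2 + w.2.1 + w.2.2) := fun M =>
    ⟨((M.1 ⟨1, e1⟩ ⟨1, e1⟩, M.1 ⟨1, e1⟩ ⟨2, e2⟩), (M.1 ⟨2, e2⟩ ⟨1, e1⟩, M.1 ⟨2, e2⟩ ⟨2, e2⟩)), by
      rw [Finset.mem_filter, mem_par]
      have a0 := hrow0 M
      have a1 := hrow1 M
      have a2 := hrow2 M
      have a3 := hcol1 M
      have a4 := hcol2 M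
      refine ⟨⟨?_, ?_, ?_, ?_⟩, ?_⟩ <;> dsimp only <;> omega⟩
  have hf : Function.Bijective f := by
    constructor
    · intro M M' h
      have h3 := congrArg Subtype.val h
      simp only [f, Prod.mk.injEq] at h3
      obtain ⟨⟨b1, b2⟩, b3, b4⟩ := h3
      have a0 := hrow0 M
      have a1 := hrow1 M
      have a2 := hrow2 M
      have a3 := hcol1 M
      have a4 := hcol2 M
      have a0' := hrow0 M'
      have a1' := hrow1 M'
      have a2' := hrow2 M'
      have a3' := hcol1 M'
      have a4' := hcol2 M'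
      apply Subtype.ext
      funext i j
      by_cases hi : 3 ≤ i.1
      · rw [hz M i j (Or.inl hi), hz M' i j (Or.inl hi)]
      by_cases hj : 3 ≤ j.1
      · rw [hz M i j (Or.inr hj), hz M' i j (Or.inr hj)]
      have hi' : i = ⟨0, e0⟩ ∨ i = ⟨1, e1⟩ ∨ i = ⟨2, e2⟩ := by
        rcases i with ⟨i, hi2⟩
        simp only [Fin.mk.injEq]
        simp only at hi
        omega
      have hj' : j = ⟨0, e0⟩ ∨ j = ⟨1, e1⟩ ∨ j = ⟨2, e2⟩ := by
        rcases j with ⟨j, hj2⟩
        simp only [Fin.mk.injEq]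
        simp only at hj
        omega
      rcases hi' with rfl | rfl | rfl <;> rcases hj' with rfl | rfl | rfl <;> omega
    · rintro ⟨w, hw⟩
      have hw' := Finset.mem_filter.1 hw
      rw [mem_par] at hw'
      obtain ⟨⟨c1, c2, c3', c4⟩, c5⟩ := hw'
      refine ⟨⟨mat n l u v q s w, ?_, ?_⟩, ?_⟩
      · intro i
        by_cases hi : 3 ≤ i.1
        · rw [c3_ge hi]
          unfold mat
          rw [if_neg (by omega), if_neg (by omega), if_neg (by omega)]
          simp
        · have hi' : i.1 = 0 ∨ i.1 = 1 ∨ i.1 = 2 := by omega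
          rcases hi' with h | h | h
          · unfold mat
            rw [if_pos h, sum_c3 hn]
            unfold c3
            rw [if_pos h]
            omega
          · unfold mat
            rw [if_neg (by omega), if_pos h, sum_c3 hn]
            unfold c3
            rw [if_neg (by omega), if_pos h]
            omega
          · unfold mat
            rw [if_neg (by omega), if_neg (by omega), if_pos h, sum_c3 hn]
            unfold c3
            rw [if_neg (by omega), if_neg (by omega), if_pos h]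
            omega
      · intro j
        rw [sum_three hn]
        · have m0 : mat n l u v q s w ⟨0, by omega⟩ =
              c3 n (l - ((q - w.1.1 - w.2.1) + (s - w.1.2 - w.2.2))) (q - w.1.1 - w.2.1) (s - w.1.2 - w.2.2) := rfl
          have m1 : mat n l u v q s w ⟨1, by omega⟩ = c3 n (u - (w.1.1 + w.1.2)) w.1.1 w.1.2 := rfl
          have m2 : mat n l u v q s w ⟨2, by omega⟩ = c3 n (v - (w.2.1 + w.2.2)) w.2.1 w.2.2 := rfl
          rw [m0, m1, m2]
          unfold c3
          split_ifs <;> omega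
        · intro i hi
          unfold mat
          rw [if_neg (by omega), if_neg (by omega), if_neg (by omega)]
      · apply Subtype.ext
        have m1 : mat n l u v q s w ⟨1, e1⟩ = c3 n (u - (w.1.1 + w.1.2)) w.1.1 w.1.2 := rfl
        have m2 : mat n l u v q s w ⟨2, e2⟩ = c3 n (v - (w.2.1 + w.2.2)) w.2.1 w.2.2 := rfl
        simp only [f, m1, m2, c3_one, c3_two]
  rw [Nat.card_eq_of_bijective f hf, Nat.card_eq_fintype_card, Fintype.card_coe]

theorem card_marg {n l u v p q s : ℕ} (hn : 3 ≤ n) (h1 : l + u + v = n) (h2 : p + q + s = n) (hq : q + s ≤ l) :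
    Nat.card (Marg (c3 n l u v) (c3 n p q s)) = (par u v q s).card := by
  rw [card_marg_gen hn h1 h2, Finset.filter_true_of_mem fun w _ => by omega]

/-- one more -/
theorem card_marg_succ {n l u v p q s : ℕ} (hn : 3 ≤ n) (h1 : l + u + v = n) (h2 : p + q + s = n) (hq : q + s = l + 1) :
    Nat.card (Marg (c3 n l u v) (c3 n p q s)) + 1 = (par u v q s).card := by
  have h3 : (par u v q s).filter (fun w => q + s ≤ l + (w.1.1 + w.1.2 + w.2.1 + w.2.2)) = (par u v q s).erase ((0, 0), (0, 0)) := by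
    ext ⟨⟨a, b⟩, c, d⟩
    rw [Finset.mem_filter, Finset.mem_erase, mem_par]
    simp only [ne_eq, Prod.mk.injEq]
    omega
  rw [card_marg_gen hn h1 h2, h3, Finset.card_erase_add_one]
  rw [mem_par]
  dsimp only
  omega

/-! ### evaluation -/

/-- the number of `(x, z) ≤ (u, v)` with `x + z ≤ q` -/
def G (u v q : ℕ) : ℕ := ∑ x ∈ Finset.range (u + 1), if x ≤ q then min v (q - x) + 1 else 0

/-- the number of `(x, z) ≤ (u, v)` with `x + z = q` -/
def ee (u v q : ℕ) : ℕ := min u q + 1 - (q - v)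

theorem card_pairs (u v q : ℕ) : ((Finset.range (u + 1) ×ˢ Finset.range (v + 1)).filter fun w => w.1 + w.2 ≤ q).card = G u v q := by
  rw [Finset.card_filter, Finset.sum_product]
  unfold G
  refine Finset.sum_congr rfl fun x _ => ?_
  rw [← Finset.card_filter]
  split_ifs with h
  · have : (Finset.range (v + 1)).filter (fun z => x + z ≤ q) = Finset.range (min v (q - x) + 1) := by
      ext z
      simp only [Finset.mem_filter, Finset.mem_range]
      omega
    rw [this, Finset.card_range]
  · rw [Finset.card_eq_zero, Finset.filter_eq_empty_iff]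
    intro z _
    omega

theorem G_succ (u v q : ℕ) : G u v (q + 1) = G u v q + ee u v (q + 1) := by
  induction u with
  | zero =>
    unfold G ee
    simp only [zero_add, Finset.range_one, Finset.sum_singleton, Nat.zero_le, if_true, Nat.sub_zero, Nat.zero_min]
    omega
  | succ u ih =>
    have h1 : ∀ k, G (u + 1) v k = G u v k + if u + 1 ≤ k then min v (k - (u + 1)) + 1 else 0 := fun k => by
      unfold G
      rw [Finset.sum_range_succ]
    rw [h1, h1, ih]
    unfold ee
    split_ifs <;> omega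

theorem card_par_zero (u v q : ℕ) : (par u v q 0).card = G u v q := by
  rw [← card_pairs]
  refine Finset.card_nbij' (fun w => (w.1.1, w.2.1)) (fun w => ((w.1, 0), (w.2, 0))) ?_ ?_ ?_ ?_
  · intro w hw
    rw [Finset.mem_coe, mem_par] at hw
    rw [Finset.mem_coe, Finset.mem_filter, Finset.mem_product, Finset.mem_range, Finset.mem_range]
    dsimp only
    omega
  · intro w hw
    rw [Finset.mem_coe, Finset.mem_filter, Finset.mem_product, Finset.mem_range, Finset.mem_range] at hw
    rw [Finset.mem_coe, mem_par]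
    dsimp only
    omega
  · rintro ⟨⟨a, b⟩, c, d⟩ hw
    rw [Finset.mem_coe, mem_par] at hw
    dsimp only at hw ⊢
    have hb : b = 0 := by omega
    have hd : d = 0 := by omega
    rw [hb, hd]
  · rintro ⟨a, b⟩ _
    rfl

theorem card_par_one (u v q : ℕ) : (par u v q 1).card =
    G u v q + (if 1 ≤ u then G (u - 1) v q else 0) + (if 1 ≤ v then G u (v - 1) q else 0) := by
  rw [← Finset.card_filter_add_card_filter_not (s := par u v q 1) (fun w => w.1.2 = 0),
    ← Finset.card_filter_add_card_filter_not (s := (par u v q 1).filter fun w => w.1.2 = 0) (fun w => w.2.2 = 0)]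
  have h1 : (((par u v q 1).filter fun w => w.1.2 = 0).filter fun w => w.2.2 = 0).card = G u v q := by
    rw [← card_pairs]
    refine Finset.card_nbij' (fun w => (w.1.1, w.2.1)) (fun w => ((w.1, 0), (w.2, 0))) ?_ ?_ ?_ ?_
    · intro w hw
      rw [Finset.mem_coe, Finset.mem_filter, Finset.mem_filter, mem_par] at hw
      rw [Finset.mem_coe, Finset.mem_filter, Finset.mem_product, Finset.mem_range, Finset.mem_range]
      dsimp only
      omega
    · intro w hw
      rw [Finset.mem_coe, Finset.mem_filter, Finset.mem_product, Finset.mem_range, Finset.mem_range] at hw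
      rw [Finset.mem_coe, Finset.mem_filter, Finset.mem_filter, mem_par]
      dsimp only
      omega
    · rintro ⟨⟨a, b⟩, c, d⟩ hw
      rw [Finset.mem_coe, Finset.mem_filter, Finset.mem_filter, mem_par] at hw
      dsimp only at hw ⊢
      rw [hw.1.2, hw.2]
    · rintro ⟨a, b⟩ _
      rfl
  have h2 : (((par u v q 1).filter fun w => w.1.2 = 0).filter fun w => ¬ w.2.2 = 0).card =
      if 1 ≤ v then G u (v - 1) q else 0 := by
    split_ifs with hv
    · rw [← card_pairs]
      refine Finset.card_nbij' (fun w => (w.1.1, w.2.1)) (fun w => ((w.1, 0), (w.2, 1))) ?_ ?_ ?_ ?_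
      · intro w hw
        rw [Finset.mem_coe, Finset.mem_filter, Finset.mem_filter, mem_par] at hw
        rw [Finset.mem_coe, Finset.mem_filter, Finset.mem_product, Finset.mem_range, Finset.mem_range]
        dsimp only
        omega
      · intro w hw
        rw [Finset.mem_coe, Finset.mem_filter, Finset.mem_product, Finset.mem_range, Finset.mem_range] at hw
        rw [Finset.mem_coe, Finset.mem_filter, Finset.mem_filter, mem_par]
        dsimp only
        omega
      · rintro ⟨⟨a, b⟩, c, d⟩ hw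
        rw [Finset.mem_coe, Finset.mem_filter, Finset.mem_filter, mem_par] at hw
        dsimp only at hw ⊢
        have hd : d = 1 := by omega
        rw [hw.1.2, hd]
      · rintro ⟨a, b⟩ _
        rfl
    · rw [Finset.card_eq_zero, Finset.filter_eq_empty_iff]
      intro w hw
      rw [Finset.mem_filter, mem_par] at hw
      omega
  have h3 : ((par u v q 1).filter fun w => ¬ w.1.2 = 0).card = if 1 ≤ u then G (u - 1) v q else 0 := by
    split_ifs with hu
    · rw [← card_pairs]
      refine Finset.card_nbij' (fun w => (w.1.1, w.2.1)) (fun w => ((w.1, 1), (w.2, 0))) ?_ ?_ ?_ ?_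
      · intro w hw
        rw [Finset.mem_coe, Finset.mem_filter, mem_par] at hw
        rw [Finset.mem_coe, Finset.mem_filter, Finset.mem_product, Finset.mem_range, Finset.mem_range]
        dsimp only
        omega
      · intro w hw
        rw [Finset.mem_coe, Finset.mem_filter, Finset.mem_product, Finset.mem_range, Finset.mem_range] at hw
        rw [Finset.mem_coe, Finset.mem_filter, mem_par]
        dsimp only
        omega
      · rintro ⟨⟨a, b⟩, c, d⟩ hw
        rw [Finset.mem_coe, Finset.mem_filter, mem_par] at hw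
        dsimp only at hw ⊢
        have hb : b = 1 := by omega
        have hd : d = 0 := by omega
        rw [hb, hd]
      · rintro ⟨a, b⟩ _
        rfl
    · rw [Finset.card_eq_zero, Finset.filter_eq_empty_iff]
      intro w hw
      rw [mem_par] at hw
      omega
  rw [h1, h2, h3]
  ring

/-- two rows -/
theorem kos_two {n l u v k : ℕ} (hn : 3 ≤ n) (h1 : l + u + v = n) (hk : 1 ≤ k) (h2 : k ≤ n) (hq : k ≤ l) :
    (Nat.card (Marg (c3 n l u v) (c3 n (n - k) k 0)) : ℤ) - Nat.card (Marg (c3 n l u v) (c3 n (n - (k - 1)) (k - 1) 0)) =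
      ee u v k := by
  rw [card_marg hn h1 (by omega) (by omega), card_marg hn h1 (by omega) (by omega), card_par_zero, card_par_zero]
  obtain ⟨k, rfl⟩ : ∃ k', k = k' + 1 := ⟨k - 1, by omega⟩
  rw [G_succ, Nat.add_sub_cancel]
  push_cast
  ring

/-- three rows -/
theorem kos_three {n l u v b : ℕ} (hn : 3 ≤ n) (h1 : l + u + v = n) (hb : 1 ≤ b) (h2 : b + 1 ≤ n) (hq : b ≤ l) :
    (Nat.card (Marg (c3 n l u v) (c3 n (n - b - 1) b 1)) : ℤ) - Nat.card (Marg (c3 n l u v) (c3 n (n - b - 1) (b + 1) 0)) -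
      Nat.card (Marg (c3 n l u v) (c3 n (n - b) (b - 1) 1)) + Nat.card (Marg (c3 n l u v) (c3 n (n - b + 1) (b - 1) 0)) =
      (if 1 ≤ u then (ee (u - 1) v b : ℤ) else 0) + (if 1 ≤ v then (ee u (v - 1) b : ℤ) else 0) - ee u v (b + 1) := by
  have h3 : (Nat.card (Marg (c3 n l u v) (c3 n (n - b - 1) b 1)) : ℤ) - Nat.card (Marg (c3 n l u v) (c3 n (n - b - 1) (b + 1) 0)) =
      ((par u v b 1).card : ℤ) - (par u v (b + 1) 0).card := by
    rcases Nat.lt_or_ge b l with h | h
    · rw [card_marg hn h1 (by omega) (by omega), card_marg hn h1 (by omega) (by omega)]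
    · rw [← card_marg_succ (p := n - b - 1) (s := 1) hn h1 (by omega) (by omega),
        ← card_marg_succ (p := n - b - 1) (s := 0) hn h1 (by omega) (by omega)]
      push_cast
      ring
  rw [h3, card_marg hn h1 (by omega) (by omega),
    card_marg hn h1 (by omega) (by omega), card_par_one, card_par_zero, card_par_one, card_par_zero]
  obtain ⟨b, rfl⟩ : ∃ b', b = b' + 1 := ⟨b - 1, by omega⟩
  rw [G_succ u v (b + 1), G_succ u v b, G_succ (u - 1) v b, G_succ u (v - 1) b, Nat.add_sub_cancel]
  split_ifs <;> push_cast <;> ring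

end Cfsg.Agent.H139.CY
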