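import Cfsg.Agent.H139.CY.Cnt

/-!
# S4829, `PSL_n`: irreducible characters of two and three rows

`Q` a family of subgroups of Young type (`H583.BR.YoungType`), e.g. the parabolic subgroups `flg n F` of `PSL_n(q)`.

* `fz_comp` : the permutation character does not depend on the order of the parts;
* `two_rows`, `three_rows` : the characters `(n - k, k)` and `(n - b - 1, b, 1)`: integral combinations of permutation
  characters which are irreducible, nontrivial, with the multiplicities in the permutation characters of the compositions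
  `(l, u, v)`.
-/

set_option autoImplicit false
set_option linter.unusedSectionVars false
set_option linter.unusedVariables false

namespace Cfsg.Agent.H139.CY

open Cfsg Finset
open scoped ComplexConjugate
open Cfsg.Agent.Characters.Core
open Cfsg.Agent.H139.Young Cfsg.Agent.H583.BR

universe u

variable {n : ℕ} {Γ : Type u} [Group Γ] [Fintype Γ] {Q : (Fin n → ℕ) → Subgroup Γ}

/-! ### the order of the parts -/

theorem card_marg_left (a b : Fin n → ℕ) (σ : Equiv.Perm (Fin n)) : Nat.card (Marg (a ∘ σ) b) = Nat.card (Marg a b) := by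
  refine Nat.card_congr ⟨fun M => ⟨fun i j => M.1 (σ.symm i) j, ?_, ?_⟩, fun M => ⟨fun i j => M.1 (σ i) j, ?_, ?_⟩, ?_, ?_⟩
  · intro i
    have h := M.2.1 (σ.symm i)
    rw [Function.comp_apply, Equiv.apply_symm_apply] at h
    exact h
  · intro j
    rw [← M.2.2 j]
    exact Equiv.sum_comp σ.symm (fun i => M.1 i j)
  · intro i
    exact M.2.1 (σ i)
  · intro j
    rw [← M.2.2 j]
    exact Equiv.sum_comp σ (fun i => M.1 i j)
  · intro M
    apply Subtype.ext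
    funext i j
    simp
  · intro M
    apply Subtype.ext
    funext i j
    simp

theorem card_marg_swap (a b : Fin n → ℕ) : Nat.card (Marg a b) = Nat.card (Marg b a) :=
  Nat.card_congr ⟨fun M => ⟨fun i j => M.1 j i, M.2.2, M.2.1⟩, fun M => ⟨fun i j => M.1 j i, M.2.2, M.2.1⟩,
    fun _ => rfl, fun _ => rfl⟩

theorem fz_comp (hQ : YoungType Q) {a : Fin n → ℕ} (ha : ∑ i, a i = n) (σ : Equiv.Perm (Fin n)) (g : Γ) :
    fz (Q (a ∘ σ)) g = fz (Q a) g := by
  have ha' : ∑ i, (a ∘ σ) i = n := (Equiv.sum_comp σ a).trans ha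
  have h1 := hQ.sum_eq ⟨a, ha⟩ ⟨a, ha⟩
  have h2 := hQ.sum_eq ⟨a ∘ σ, ha'⟩ ⟨a, ha⟩
  have h3 := hQ.sum_eq ⟨a ∘ σ, ha'⟩ ⟨a ∘ σ, ha'⟩
  simp only at h1 h2 h3
  rw [card_marg_left] at h2 h3
  rw [card_marg_swap, card_marg_left] at h3
  have h4 : ∑ g : Γ, (fz (Q (a ∘ σ)) g - fz (Q a) g) * (fz (Q (a ∘ σ)) g - fz (Q a) g) = 0 := by
    have h5 : ∀ g, (fz (Q (a ∘ σ)) g - fz (Q a) g) * (fz (Q (a ∘ σ)) g - fz (Q a) g) =
        fz (Q (a ∘ σ)) g * fz (Q (a ∘ σ)) g - 2 * (fz (Q (a ∘ σ)) g * fz (Q a) g) + fz (Q a) g * fz (Q a) g :=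
      fun g => by ring
    rw [Finset.sum_congr rfl fun g _ => h5 g, Finset.sum_add_distrib, Finset.sum_sub_distrib, ← Finset.mul_sum, h1, h2, h3]
    ring
  rw [Finset.sum_eq_zero_iff_of_nonneg (fun g _ => mul_self_nonneg _)] at h4
  have h5 := mul_self_eq_zero.1 (h4 g (Finset.mem_univ g))
  exact sub_eq_zero.1 h5

/-! ### inner products -/

theorem inner_fz (hQ : YoungType Q) {a b : Fin n → ℕ} (ha : ∑ i, a i = n) (hb : ∑ i, b i = n) :
    classInner (fixedPointCharacter (Q a)) (fun g => ((fz (Q b) g : ℤ) : ℂ)) = ((Nat.card (Marg a b) : ℤ) : ℂ) := by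
  rw [classInner_def, Int.cast_natCast, ← hQ a b ha hb]
  congr 1
  refine Finset.sum_congr rfl fun g _ => ?_
  rw [← fz_cast, ← fz_cast]
  simp

theorem inner_one (H : Subgroup Γ) : classInner (fixedPointCharacter H) (fun _ => 1) = 1 := by
  rw [classInner_def]
  simp only [map_one, mul_one]
  have h1 : ∑ g : Γ, fixedPointCharacter H g = Nat.card Γ := by
    classical
    have := Fintype.ofFinite (Γ ⧸ H)
    have h2 := MulAction.sum_card_fixedBy_eq_card_orbits_mul_card_group Γ (Γ ⧸ H)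
    have h3 : Fintype.card (Quotient (MulAction.orbitRel Γ (Γ ⧸ H))) = 1 := by
      have h4 : Subsingleton (Quotient (MulAction.orbitRel Γ (Γ ⧸ H))) :=
        (MulAction.pretransitive_iff_subsingleton_quotient Γ (Γ ⧸ H)).1 inferInstance
      have h5 : Nonempty (Quotient (MulAction.orbitRel Γ (Γ ⧸ H))) := ⟨Quotient.mk'' ((1 : Γ) : Γ ⧸ H)⟩
      exact le_antisymm (Fintype.card_le_one_iff_subsingleton.2 h4) (Fintype.card_pos_iff.2 h5)
    rw [h3, one_mul] at h2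
    rw [Nat.card_eq_fintype_card, ← h2]
    push_cast
    refine Finset.sum_congr rfl fun g _ => ?_
    rw [fixedPointCharacter, Nat.card_eq_fintype_card]
  rw [h1, inv_mul_cancel₀ card_ne_zero_complex]

/-- the engine -/
theorem engine (hn : 0 < n) (hQ : YoungType Q) {θ : Γ → ℂ} (hgen : IsGeneralizedCharacter Γ θ) (h1 : classInner θ θ = 1)
    {a : Fin n → ℕ} (h2 : classInner (fixedPointCharacter (Q a)) θ = 1) {b : Fin n → ℕ}
    (h3 : classInner (fixedPointCharacter (Q b)) θ = 0) :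
    ∃ χ : IrrCharacter Γ, (χ : Γ → ℂ) = θ ∧ (χ : Γ → ℂ) ≠ fun _ => 1 := by
  have hirr : IsIrrCharacter Γ θ := by
    rcases isIrr_of_generalized hgen h1 with h | h
    · exact h
    · exfalso
      obtain ⟨k, hk⟩ := classInner_isNat (Cfsg.Agent.H139.Unipotent.isCharacter_fixedPoint (Q a)) (isIrr_isCharacter h)
      rw [classInner_neg_right, h2] at hk
      have h4 : ((-1 : ℤ) : ℂ) = ((k : ℤ) : ℂ) := by
        push_cast
        exact hk
      have h5 : (-1 : ℤ) = k := by exact_mod_cast h4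
      omega
  refine ⟨⟨θ, hirr⟩, rfl, fun h => ?_⟩
  have h4 : θ = fun _ => 1 := h
  rw [h4, inner_one] at h3
  exact one_ne_zero h3

/-- **Two rows.** -/
theorem two_rows (hn : 3 ≤ n) (hQ : YoungType Q) {k : ℕ} (hk : 1 ≤ k) (h2k : 2 * k ≤ n) :
    ∃ χ : IrrCharacter Γ, (χ : Γ → ℂ) ≠ (fun _ => 1) ∧
      (∀ g, (χ : Γ → ℂ) g = ((fz (Q (c3 n (n - k) k 0)) g - fz (Q (c3 n (n - (k - 1)) (k - 1) 0)) g : ℤ) : ℂ)) ∧
      ∀ l u v, l + u + v = n → k ≤ l → classInner (fixedPointCharacter (Q (c3 n l u v))) (χ : Γ → ℂ) = (ee u v k : ℂ) := by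
  have ha : ∑ i, c3 n (n - k) k 0 i = n := by rw [sum_c3 hn]; omega
  have hb : ∑ i, c3 n (n - (k - 1)) (k - 1) 0 i = n := by rw [sum_c3 hn]; omega
  let A : Cmp n := ⟨c3 n (n - k) k 0, ha⟩
  let B : Cmp n := ⟨c3 n (n - (k - 1)) (k - 1) 0, hb⟩
  let θ : Γ → ℂ := fun g => ((fz (Q (c3 n (n - k) k 0)) g - fz (Q (c3 n (n - (k - 1)) (k - 1) 0)) g : ℤ) : ℂ)
  have hθ : θ = (fun g => ((fz (Q (c3 n (n - k) k 0)) g : ℤ) : ℂ)) - fun g => ((fz (Q (c3 n (n - (k - 1)) (k - 1) 0)) g : ℤ) : ℂ) := by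
    funext g
    simp only [θ, Pi.sub_apply]
    push_cast
    rfl
  have hθT : θ = fun g => ((T Q (Finsupp.single A 1 - Finsupp.single B 1) g : ℤ) : ℂ) := by
    funext g
    rw [map_sub, Pi.sub_apply, T_single, T_single, one_mul, one_mul]
  have hin : ∀ l u v, l + u + v = n → k ≤ l → classInner (fixedPointCharacter (Q (c3 n l u v))) θ = (ee u v k : ℂ) := by
    intro l u v h1 hl
    have hc : ∑ i, c3 n l u v i = n := by rw [sum_c3 hn, h1]
    rw [hθ, classInner_sub_right, inner_fz hQ hc ha, inner_fz hQ hc hb, ← Int.cast_sub,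
      kos_two hn h1 hk (by omega) hl, Int.cast_natCast]
  have hfz : ∀ a : Fin n → ℕ, (fun g => ((fz (Q a) g : ℤ) : ℂ)) = fixedPointCharacter (Q a) := fun a => by
    funext g
    exact fz_cast (Q a) g
  have hAA := hin (n - k) k 0 (by omega) (by omega)
  have hBB := hin (n - (k - 1)) (k - 1) 0 (by omega) (by omega)
  have e1 : ee k 0 k = 1 := by unfold ee; omega
  have e2 : ee (k - 1) 0 k = 0 := by unfold ee; omega
  rw [e1, Nat.cast_one] at hAA
  rw [e2, Nat.cast_zero] at hBB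
  have hnorm : classInner θ θ = 1 := by
    have h5 : θ = fixedPointCharacter (Q (c3 n (n - k) k 0)) - fixedPointCharacter (Q (c3 n (n - (k - 1)) (k - 1) 0)) := by
      rw [hθ, hfz, hfz]
    calc classInner θ θ = classInner (fixedPointCharacter (Q (c3 n (n - k) k 0)) -
          fixedPointCharacter (Q (c3 n (n - (k - 1)) (k - 1) 0))) θ := by rw [← h5]
      _ = 1 := by rw [classInner_sub_left, hAA, hBB, sub_zero]
  have hone := hin n 0 0 (by omega) (by omega)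
  have e3 : ee 0 0 k = 0 := by unfold ee; omega
  rw [e3, Nat.cast_zero] at hone
  obtain ⟨χ, h1, h2⟩ := engine (by omega) hQ (θ := θ) (by rw [hθT]; exact isGen_T _) hnorm hAA hone
  refine ⟨χ, h2, fun g => by rw [h1], fun l u v h3 h4 => by rw [h1]; exact hin l u v h3 h4⟩

/-- **Three rows** `(n - b - 1, b, 1)`. -/
theorem three_rows (hn : 3 ≤ n) (hQ : YoungType Q) {b : ℕ} (hb : 1 ≤ b) (h2b : 2 * b + 1 ≤ n) :
    ∃ χ : IrrCharacter Γ, (χ : Γ → ℂ) ≠ (fun _ => 1) ∧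
      (∀ g, (χ : Γ → ℂ) g = ((fz (Q (c3 n (n - b - 1) b 1)) g - fz (Q (c3 n (n - b - 1) (b + 1) 0)) g -
        fz (Q (c3 n (n - b) (b - 1) 1)) g + fz (Q (c3 n (n - b + 1) (b - 1) 0)) g : ℤ) : ℂ)) ∧
      ∀ l u v, l + u + v = n → b ≤ l → classInner (fixedPointCharacter (Q (c3 n l u v))) (χ : Γ → ℂ) =
        (((if 1 ≤ u then (ee (u - 1) v b : ℤ) else 0) + (if 1 ≤ v then (ee u (v - 1) b : ℤ) else 0) - ee u v (b + 1) : ℤ) : ℂ) := by
  have hA : ∑ i, c3 n (n - b - 1) b 1 i = n := by rw [sum_c3 hn]; omega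
  have hB : ∑ i, c3 n (n - b - 1) (b + 1) 0 i = n := by rw [sum_c3 hn]; omega
  have hC : ∑ i, c3 n (n - b) (b - 1) 1 i = n := by rw [sum_c3 hn]; omega
  have hD : ∑ i, c3 n (n - b + 1) (b - 1) 0 i = n := by rw [sum_c3 hn]; omega
  let A : Cmp n := ⟨_, hA⟩
  let B : Cmp n := ⟨_, hB⟩
  let C : Cmp n := ⟨_, hC⟩
  let D : Cmp n := ⟨_, hD⟩
  let θ : Γ → ℂ := fun g => ((fz (Q (c3 n (n - b - 1) b 1)) g - fz (Q (c3 n (n - b - 1) (b + 1) 0)) g -
        fz (Q (c3 n (n - b) (b - 1) 1)) g + fz (Q (c3 n (n - b + 1) (b - 1) 0)) g : ℤ) : ℂ)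
  have hθ : θ = (fun g => ((fz (Q (c3 n (n - b - 1) b 1)) g : ℤ) : ℂ)) -
      (fun g => ((fz (Q (c3 n (n - b - 1) (b + 1) 0)) g : ℤ) : ℂ)) -
      (fun g => ((fz (Q (c3 n (n - b) (b - 1) 1)) g : ℤ) : ℂ)) +
      fun g => ((fz (Q (c3 n (n - b + 1) (b - 1) 0)) g : ℤ) : ℂ) := by
    funext g
    simp only [θ, Pi.sub_apply, Pi.add_apply]
    push_cast
    rfl
  have hθT : θ = fun g => ((T Q (Finsupp.single A 1 - Finsupp.single B 1 - Finsupp.single C 1 + Finsupp.single D 1) g : ℤ) : ℂ) := by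
    funext g
    rw [map_add, map_sub, map_sub, Pi.add_apply, Pi.sub_apply, Pi.sub_apply, T_single, T_single, T_single, T_single,
      one_mul, one_mul, one_mul, one_mul]
  have hin : ∀ l u v, l + u + v = n → b ≤ l → classInner (fixedPointCharacter (Q (c3 n l u v))) θ =
      (((if 1 ≤ u then (ee (u - 1) v b : ℤ) else 0) + (if 1 ≤ v then (ee u (v - 1) b : ℤ) else 0) - ee u v (b + 1) : ℤ) : ℂ) := by
    intro l u v h1 hl
    have hc : ∑ i, c3 n l u v i = n := by rw [sum_c3 hn, h1]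
    rw [hθ, classInner_add_right, classInner_sub_right, classInner_sub_right, inner_fz hQ hc hA, inner_fz hQ hc hB,
      inner_fz hQ hc hC, inner_fz hQ hc hD, ← Int.cast_sub, ← Int.cast_sub, ← Int.cast_add, kos_three hn h1 hb (by omega) hl]
  have hfz : ∀ a : Fin n → ℕ, (fun g => ((fz (Q a) g : ℤ) : ℂ)) = fixedPointCharacter (Q a) := fun a => by
    funext g
    exact fz_cast (Q a) g
  have hAA := hin (n - b - 1) b 1 (by omega) (by omega)
  have hBB := hin (n - b - 1) (b + 1) 0 (by omega) (by omega)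
  have hCC := hin (n - b) (b - 1) 1 (by omega) (by omega)
  have hDD := hin (n - b + 1) (b - 1) 0 (by omega) (by omega)
  have hone := hin n 0 0 (by omega) (by omega)
  have e1 : ((if 1 ≤ b then (ee (b - 1) 1 b : ℤ) else 0) + (if 1 ≤ 1 then (ee b (1 - 1) b : ℤ) else 0) - ee b 1 (b + 1) : ℤ) = 1 := by
    unfold ee
    rw [if_pos hb, if_pos le_rfl]
    omega
  have e2 : ((if 1 ≤ b + 1 then (ee (b + 1 - 1) 0 b : ℤ) else 0) + (if 1 ≤ 0 then (ee (b + 1) (0 - 1) b : ℤ) else 0) -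
      ee (b + 1) 0 (b + 1) : ℤ) = 0 := by
    unfold ee
    rw [if_pos (by omega), if_neg (by omega)]
    omega
  have e3 : ((if 1 ≤ b - 1 then (ee (b - 1 - 1) 1 b : ℤ) else 0) + (if 1 ≤ 1 then (ee (b - 1) (1 - 1) b : ℤ) else 0) -
      ee (b - 1) 1 (b + 1) : ℤ) = 0 := by
    unfold ee
    rw [if_pos le_rfl]
    split_ifs <;> omega
  have e4 : ((if 1 ≤ b - 1 then (ee (b - 1 - 1) 0 b : ℤ) else 0) + (if 1 ≤ 0 then (ee (b - 1) (0 - 1) b : ℤ) else 0) -
      ee (b - 1) 0 (b + 1) : ℤ) = 0 := by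
    unfold ee
    split_ifs <;> omega
  have e5 : ((if 1 ≤ 0 then (ee (0 - 1) 0 b : ℤ) else 0) + (if 1 ≤ 0 then (ee 0 (0 - 1) b : ℤ) else 0) -
      ee 0 0 (b + 1) : ℤ) = 0 := by
    unfold ee
    split_ifs <;> omega
  rw [e1, Int.cast_one] at hAA
  rw [e2, Int.cast_zero] at hBB
  rw [e3, Int.cast_zero] at hCC
  rw [e4, Int.cast_zero] at hDD
  rw [e5, Int.cast_zero] at hone
  have hnorm : classInner θ θ = 1 := by
    have h5 : θ = fixedPointCharacter (Q (c3 n (n - b - 1) b 1)) - fixedPointCharacter (Q (c3 n (n - b - 1) (b + 1) 0)) -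
        fixedPointCharacter (Q (c3 n (n - b) (b - 1) 1)) + fixedPointCharacter (Q (c3 n (n - b + 1) (b - 1) 0)) := by
      rw [hθ, hfz, hfz, hfz, hfz]
    calc classInner θ θ = classInner (fixedPointCharacter (Q (c3 n (n - b - 1) b 1)) -
          fixedPointCharacter (Q (c3 n (n - b - 1) (b + 1) 0)) - fixedPointCharacter (Q (c3 n (n - b) (b - 1) 1)) +
          fixedPointCharacter (Q (c3 n (n - b + 1) (b - 1) 0))) θ := by rw [← h5]
      _ = 1 := by rw [classInner_add_left, classInner_sub_left, classInner_sub_left, hAA, hBB, hCC, hDD]; norm_num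
  obtain ⟨χ, h1, h2⟩ := engine (by omega) hQ (θ := θ) (by rw [hθT]; exact isGen_T _) hnorm hAA hone
  refine ⟨χ, h2, fun g => by rw [h1], fun l u v h3 h4 => by rw [h1]; exact hin l u v h3 h4⟩

/-! ### the multiplicities in the symmetric types -/

/-- the permutation `0 ↔ 1` of the parts -/
theorem c3_swap (hn : 3 ≤ n) (x y z : ℕ) :
    c3 n x y z ∘ Equiv.swap ⟨0, by omega⟩ ⟨1, by omega⟩ = c3 n y x z := by
  funext i
  rw [Function.comp_apply]
  by_cases h0 : i = ⟨0, by omega⟩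
  · rw [h0, Equiv.swap_apply_left, c3_one, c3_zero]
  · by_cases h1 : i = ⟨1, by omega⟩
    · rw [h1, Equiv.swap_apply_right, c3_one, c3_zero]
    · rw [Equiv.swap_apply_of_ne_of_ne h0 h1]
      unfold c3
      have h0' : i.1 ≠ 0 := fun h => h0 (Fin.ext h)
      have h1' : i.1 ≠ 1 := fun h => h1 (Fin.ext h)
      rw [if_neg h0', if_neg h1', if_neg h0', if_neg h1']

theorem fpc_swap (hn : 3 ≤ n) (hQ : YoungType Q) {x y z : ℕ} (h : x + y + z = n) :
    fixedPointCharacter (Q (c3 n y x z)) = fixedPointCharacter (Q (c3 n x y z)) := by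
  funext g
  rw [← fz_cast, ← fz_cast, ← c3_swap hn x y z, fz_comp hQ (by rw [sum_c3 hn, h])]

/-- half-dimensional subspaces -/
theorem two_rows_half (hn : 3 ≤ n) (hQ : YoungType Q) {k l : ℕ} (hk : 1 ≤ k) (hl : 2 * l = n) (hkl : k ≤ l) :
    ∃ χ : IrrCharacter Γ, (χ : Γ → ℂ) ≠ (fun _ => 1) ∧
      (∀ g, (χ : Γ → ℂ) g = ((fz (Q (c3 n (n - k) k 0)) g - fz (Q (c3 n (n - (k - 1)) (k - 1) 0)) g : ℤ) : ℂ)) ∧
      classInner (fixedPointCharacter (Q (c3 n l l 0))) (χ : Γ → ℂ) = 1 := by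
  obtain ⟨χ, h1, h2, h3⟩ := two_rows hn hQ hk (by omega : 2 * k ≤ n)
  refine ⟨χ, h1, h2, ?_⟩
  rw [h3 l l 0 (by omega) hkl]
  have : ee l 0 k = 1 := by unfold ee; omega
  rw [this, Nat.cast_one]

/-- flags `(U_j ≤ W_(n-j))`, two rows `(n - 2 j, 2 j)` -/
theorem two_rows_flag (hn : 3 ≤ n) (hQ : YoungType Q) {j : ℕ} (hj : 1 ≤ j) (h4 : 4 * j ≤ n) :
    ∃ χ : IrrCharacter Γ, (χ : Γ → ℂ) ≠ (fun _ => 1) ∧
      (∀ g, (χ : Γ → ℂ) g = ((fz (Q (c3 n (n - 2 * j) (2 * j) 0)) g - fz (Q (c3 n (n - (2 * j - 1)) (2 * j - 1) 0)) g : ℤ) : ℂ)) ∧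
      classInner (fixedPointCharacter (Q (c3 n j (n - 2 * j) j))) (χ : Γ → ℂ) = 1 := by
  obtain ⟨χ, h1, h2, h3⟩ := two_rows hn hQ (k := 2 * j) (by omega) (by omega)
  refine ⟨χ, h1, h2, ?_⟩
  rw [fpc_swap hn hQ (by omega : (n - 2 * j) + j + j = n), h3 (n - 2 * j) j j (by omega) (by omega)]
  have : ee j j (2 * j) = 1 := by unfold ee; omega
  rw [this, Nat.cast_one]

/-- flags `(U_j ≤ W_(n-j))`, three rows `(n - 2 j, 2 j - 1, 1)` -/
theorem three_rows_flag (hn : 3 ≤ n) (hQ : YoungType Q) {j : ℕ} (hj : 1 ≤ j) (h4 : 4 * j ≤ n + 1) :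
    ∃ χ : IrrCharacter Γ, (χ : Γ → ℂ) ≠ (fun _ => 1) ∧
      (∀ g, (χ : Γ → ℂ) g = ((fz (Q (c3 n (n - 2 * j) (2 * j - 1) 1)) g - fz (Q (c3 n (n - 2 * j) (2 * j) 0)) g -
        fz (Q (c3 n (n - 2 * j + 1) (2 * j - 2) 1)) g + fz (Q (c3 n (n - 2 * j + 2) (2 * j - 2) 0)) g : ℤ) : ℂ)) ∧
      classInner (fixedPointCharacter (Q (c3 n j (n - 2 * j) j))) (χ : Γ → ℂ) = 1 := by
  obtain ⟨χ, h1, h2, h3⟩ := three_rows hn hQ (b := 2 * j - 1) (by omega) (by omega)
  have a1 : n - (2 * j - 1) - 1 = n - 2 * j := by omega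
  have a2 : 2 * j - 1 + 1 = 2 * j := by omega
  have a3 : n - (2 * j - 1) = n - 2 * j + 1 := by omega
  have a4 : 2 * j - 1 - 1 = 2 * j - 2 := by omega
  have a5 : n - 2 * j + 1 + 1 = n - 2 * j + 2 := by omega
  rw [a1, a2, a3, a4, a5] at h2
  refine ⟨χ, h1, h2, ?_⟩
  rw [fpc_swap hn hQ (by omega : (n - 2 * j) + j + j = n), h3 (n - 2 * j) j j (by omega) (by omega)]
  have : ((if 1 ≤ j then (ee (j - 1) j (2 * j - 1) : ℤ) else 0) + (if 1 ≤ j then (ee j (j - 1) (2 * j - 1) : ℤ) else 0) -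
      ee j j (2 * j - 1 + 1) : ℤ) = 1 := by
    rw [if_pos hj, if_pos hj]
    unfold ee
    omega
  rw [this, Int.cast_one]

end Cfsg.Agent.H139.CY
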