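import Cfsg.Agent.H139.CY.Irr
import Cfsg.Agent.H829.CY.Bridge
import Cfsg.Agent.H477.CY.Inv
import Cfsg.Agent.H770.CY.Defs

/-!
# S4829, row `PSL_n(q)`, `n ≥ 3`: the characters `θ` (helper139)

`NS F n k l s` : the number of flags `U_k ≤ W_l` fixed by `s`.

* `psl_two` : the character `(n - k, k)` (`1 ≤ k`, `2 k ≤ n`);
* `psl_three` : the character `(n - 2 j, 2 j - 1, 1)` (`1 ≤ j`, `4 j ≤ n + 1`);

irreducible, nontrivial, rational valued, invariant under all automorphisms, with values `NS` and with multiplicity one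
in the permutation character on the flags `U_j ≤ W_(n-j)` (and on the half-dimensional subspaces).
-/

set_option autoImplicit false
set_option linter.unusedSectionVars false

namespace Cfsg.Agent.H139.CY

open Cfsg Finset
open scoped ComplexConjugate MatrixGroups
open Cfsg.Agent.Characters.Core
open Cfsg.Agent.H139.Young Cfsg.Agent.H583.BR Cfsg.Agent.H932.BR

universe u

/-! ### the order of the parts -/

section order

variable {n : ℕ} {Γ : Type u} [Group Γ] [Fintype Γ] {Q : (Fin n → ℕ) → Subgroup Γ}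

/-- the permutation `0 ↔ 2` of the parts -/
theorem c3_rev (hn : 3 ≤ n) (x y z : ℕ) :
    c3 n x y z ∘ Equiv.swap ⟨0, by omega⟩ ⟨2, by omega⟩ = c3 n z y x := by
  funext i
  rw [Function.comp_apply]
  by_cases h0 : i = ⟨0, by omega⟩
  · rw [h0, Equiv.swap_apply_left, c3_two, c3_zero]
  · by_cases h1 : i = ⟨2, by omega⟩
    · rw [h1, Equiv.swap_apply_right, c3_two, c3_zero]
    · rw [Equiv.swap_apply_of_ne_of_ne h0 h1]
      unfold c3
      have h0' : i.1 ≠ 0 := fun h => h0 (Fin.ext h)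
      have h1' : i.1 ≠ 2 := fun h => h1 (Fin.ext h)
      rw [if_neg h0', if_neg h0', if_neg h1', if_neg h1']

/-- the permutation `1 ↔ 2` of the parts -/
theorem c3_swap' (hn : 3 ≤ n) (x y z : ℕ) :
    c3 n x y z ∘ Equiv.swap ⟨1, by omega⟩ ⟨2, by omega⟩ = c3 n x z y := by
  funext i
  rw [Function.comp_apply]
  by_cases h0 : i = ⟨1, by omega⟩
  · rw [h0, Equiv.swap_apply_left, c3_two, c3_one]
  · by_cases h1 : i = ⟨2, by omega⟩
    · rw [h1, Equiv.swap_apply_right, c3_two, c3_one]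
    · rw [Equiv.swap_apply_of_ne_of_ne h0 h1]
      unfold c3
      have h0' : i.1 ≠ 1 := fun h => h0 (Fin.ext h)
      have h1' : i.1 ≠ 2 := fun h => h1 (Fin.ext h)
      rw [if_neg h0', if_neg h1', if_neg h0', if_neg h1']

theorem fz_rev (hn : 3 ≤ n) (hQ : YoungType Q) {x y z : ℕ} (h : x + y + z = n) (g : Γ) :
    fz (Q (c3 n z y x)) g = fz (Q (c3 n x y z)) g := by
  rw [← c3_rev hn x y z, fz_comp hQ (by rw [sum_c3 hn, h])]

theorem fz_swap (hn : 3 ≤ n) (hQ : YoungType Q) {x y z : ℕ} (h : x + y + z = n) (g : Γ) :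
    fz (Q (c3 n x z y)) g = fz (Q (c3 n x y z)) g := by
  rw [← c3_swap' hn x y z, fz_comp hQ (by rw [sum_c3 hn, h])]

/-- powers prime to the order have the same fixed points -/
theorem fz_pow (H : Subgroup Γ) {k : ℕ} (hk : Nat.Coprime k (Nat.card Γ)) (g : Γ) : fz H (g ^ k) = fz H g := by
  have h1 : Nat.Coprime k (orderOf g) := hk.coprime_dvd_right (orderOf_dvd_natCard g)
  obtain ⟨m, hm⟩ := exists_pow_eq_self_of_coprime h1
  have h3 : ∀ (x : Γ) (r : ℕ), MulAction.fixedBy (Γ ⧸ H) x ⊆ MulAction.fixedBy (Γ ⧸ H) (x ^ r) := by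
    intro x r a ha
    have h4 : x ∈ MulAction.stabilizer Γ a := ha
    exact pow_mem h4 r
  have h2 : MulAction.fixedBy (Γ ⧸ H) (g ^ k) = MulAction.fixedBy (Γ ⧸ H) g := by
    refine Set.Subset.antisymm ?_ (h3 g k)
    have h4 := h3 (g ^ k) m
    rwa [hm] at h4
  rw [fz, fz, h2]

end order

/-! ### `PSL_n` -/

section psl

variable {F : Type u} [Field F] [Fintype F] {n : ℕ}

/-- the number of flags `U_k ≤ W_l` fixed by `s` -/
noncomputable def NS (F : Type u) [Field F] (n k l : ℕ) (s : Matrix.ProjectiveSpecialLinearGroup (Fin n) F) : ℕ :=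
  Nat.card {u : Om F n k × Om F n l // u.1.1 ≤ u.2.1 ∧ s • u.1 = u.1 ∧ s • u.2 = u.2}

theorem fz_NS (hn : 3 ≤ n) {x y z k l : ℕ} (h : x + y + z = n) (hk : k = x) (hl : l = x + y)
    (s : Matrix.ProjectiveSpecialLinearGroup (Fin n) F) : fz (flg n F (c3 n x y z)) s = NS F n k l s := by
  subst hk hl
  rw [fz, NS, H829.CY.fz_three (a := c3 n k y z) (z := z) hn (fun _ => rfl) h s]

variable [Fintype (Matrix.ProjectiveSpecialLinearGroup (Fin n) F)]

/-- **The character `(n - k, k)`.** -/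
theorem psl_two (hn : 3 ≤ n) {k : ℕ} (hk : 1 ≤ k) (h2k : 2 * k ≤ n) :
    ∃ χ : IrrCharacter (Matrix.ProjectiveSpecialLinearGroup (Fin n) F),
      (χ : Matrix.ProjectiveSpecialLinearGroup (Fin n) F → ℂ) ≠ (fun _ => 1) ∧
      (∀ s, (χ : Matrix.ProjectiveSpecialLinearGroup (Fin n) F → ℂ) s = NS F n 0 k s - NS F n 0 (k - 1) s) ∧
      (∀ (α : MulAut (Matrix.ProjectiveSpecialLinearGroup (Fin n) F)) s,
        (χ : Matrix.ProjectiveSpecialLinearGroup (Fin n) F → ℂ) (α s) = (χ : Matrix.ProjectiveSpecialLinearGroup (Fin n) F → ℂ) s) ∧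
      (∀ p, H770.CY.Cyc p (χ : Matrix.ProjectiveSpecialLinearGroup (Fin n) F → ℂ)) ∧
      (∀ l, 2 * l = n → classInner (fun s => (NS F n l l s : ℂ)) (χ : Matrix.ProjectiveSpecialLinearGroup (Fin n) F → ℂ) = 1) ∧
      ∀ j, 2 * j = k → classInner (fun s => (NS F n j (n - j) s : ℂ)) (χ : Matrix.ProjectiveSpecialLinearGroup (Fin n) F → ℂ) = 1 := by
  have hQ : YoungType (flg n F) := youngType_flg (by omega)
  obtain ⟨χ, h1, h2, h3⟩ := two_rows hn hQ hk h2k
  have hA : ∀ s, fz (flg n F (c3 n (n - k) k 0)) s = NS F n 0 k s := by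
    intro s
    rw [← fz_rev hn hQ (by omega : (n - k) + k + 0 = n)]
    exact fz_NS hn (by omega) rfl (by omega) s
  have hB : ∀ s, fz (flg n F (c3 n (n - (k - 1)) (k - 1) 0)) s = NS F n 0 (k - 1) s := by
    intro s
    rw [← fz_rev hn hQ (by omega : (n - (k - 1)) + (k - 1) + 0 = n)]
    exact fz_NS hn (by omega) rfl (by omega) s
  refine ⟨χ, h1, fun s => ?_, fun α s => ?_, fun p => ?_, fun l hl => ?_, fun j hj => ?_⟩
  · rw [h2, hA, hB]
    push_cast
    rfl
  · rw [h2, h2, H477.CY.fz_flg_aut (by omega) α _ (by rw [sum_c3 hn]; omega),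
      H477.CY.fz_flg_aut (by omega) α _ (by rw [sum_c3 hn]; omega)]
  · intro m hm _ g
    rw [h2, h2, fz_pow _ hm, fz_pow _ hm]
  · have h4 : (fun s => (NS F n l l s : ℂ)) = fixedPointCharacter (flg n F (c3 n l l 0)) := by
      funext s
      rw [← fz_cast, ← fz_swap hn hQ (by omega : l + l + 0 = n), fz_NS hn (by omega : l + 0 + l = n) rfl rfl]
      push_cast
      rfl
    rw [h4, h3 l l 0 (by omega) (by omega)]
    have : ee l 0 k = 1 := by unfold ee; omega
    rw [this, Nat.cast_one]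
  · have h4 : (fun s => (NS F n j (n - j) s : ℂ)) = fixedPointCharacter (flg n F (c3 n j (n - 2 * j) j)) := by
      funext s
      rw [← fz_cast, fz_NS hn (by omega : j + (n - 2 * j) + j = n) rfl (by omega : n - j = j + (n - 2 * j))]
      push_cast
      rfl
    rw [h4, fpc_swap hn hQ (by omega : (n - 2 * j) + j + j = n), h3 (n - 2 * j) j j (by omega) (by omega)]
    have : ee j j k = 1 := by unfold ee; omega
    rw [this, Nat.cast_one]

/-- **The character `(n - 2 j, 2 j - 1, 1)`**, in the form `b = 2 j - 1 ≤ m`, `m + b + 1 = n`. -/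
theorem psl_three (hn : 3 ≤ n) {m b j : ℕ} (hj : b + 1 = 2 * j) (hb : b ≤ m) (hm : m + b + 1 = n) :
    ∃ χ : IrrCharacter (Matrix.ProjectiveSpecialLinearGroup (Fin n) F),
      (χ : Matrix.ProjectiveSpecialLinearGroup (Fin n) F → ℂ) ≠ (fun _ => 1) ∧
      (∀ s, (χ : Matrix.ProjectiveSpecialLinearGroup (Fin n) F → ℂ) s =
        NS F n 1 (b + 1) s - NS F n 1 b s - NS F n 0 (b + 1) s + NS F n 0 (b - 1) s) ∧
      (∀ (α : MulAut (Matrix.ProjectiveSpecialLinearGroup (Fin n) F)) s,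
        (χ : Matrix.ProjectiveSpecialLinearGroup (Fin n) F → ℂ) (α s) = (χ : Matrix.ProjectiveSpecialLinearGroup (Fin n) F → ℂ) s) ∧
      (∀ p, H770.CY.Cyc p (χ : Matrix.ProjectiveSpecialLinearGroup (Fin n) F → ℂ)) ∧
      classInner (fun s => (NS F n j (n - j) s : ℂ)) (χ : Matrix.ProjectiveSpecialLinearGroup (Fin n) F → ℂ) = 1 := by
  have hQ : YoungType (flg n F) := youngType_flg (by omega)
  obtain ⟨χ, h1, h2, h3⟩ := three_rows (b := b) hn hQ (by omega) (by omega)
  have hA : ∀ s, fz (flg n F (c3 n (n - b - 1) b 1)) s = NS F n 1 (b + 1) s := by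
    intro s
    rw [← fz_rev hn hQ (by omega : (n - b - 1) + b + 1 = n)]
    exact fz_NS hn (by omega) rfl (by omega) s
  have hB : ∀ s, fz (flg n F (c3 n (n - b - 1) (b + 1) 0)) s = NS F n 0 (b + 1) s := by
    intro s
    rw [← fz_rev hn hQ (by omega : (n - b - 1) + (b + 1) + 0 = n)]
    exact fz_NS hn (by omega) rfl (by omega) s
  have hC : ∀ s, fz (flg n F (c3 n (n - b) (b - 1) 1)) s = NS F n 1 b s := by
    intro s
    rw [← fz_rev hn hQ (by omega : (n - b) + (b - 1) + 1 = n)]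
    exact fz_NS hn (by omega) rfl (by omega) s
  have hD : ∀ s, fz (flg n F (c3 n (n - b + 1) (b - 1) 0)) s = NS F n 0 (b - 1) s := by
    intro s
    rw [← fz_rev hn hQ (by omega : (n - b + 1) + (b - 1) + 0 = n)]
    exact fz_NS hn (by omega) rfl (by omega) s
  refine ⟨χ, h1, fun s => ?_, fun α s => ?_, fun p => ?_, ?_⟩
  · rw [h2, hA, hB, hC, hD]
    push_cast
    ring
  · rw [h2, h2, H477.CY.fz_flg_aut (by omega) α _ (by rw [sum_c3 hn]; omega),
      H477.CY.fz_flg_aut (by omega) α _ (by rw [sum_c3 hn]; omega),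
      H477.CY.fz_flg_aut (by omega) α _ (by rw [sum_c3 hn]; omega),
      H477.CY.fz_flg_aut (by omega) α _ (by rw [sum_c3 hn]; omega)]
  · intro m hm _ g
    rw [h2, h2, fz_pow _ hm, fz_pow _ hm, fz_pow _ hm, fz_pow _ hm]
  · have h4 : (fun s => (NS F n j (n - j) s : ℂ)) = fixedPointCharacter (flg n F (c3 n j (n - 2 * j) j)) := by
      funext s
      rw [← fz_cast, fz_NS hn (by omega : j + (n - 2 * j) + j = n) rfl (by omega : n - j = j + (n - 2 * j))]
      push_cast
      rfl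
    rw [h4, fpc_swap hn hQ (by omega : (n - 2 * j) + j + j = n), h3 (n - 2 * j) j j (by omega) (by omega)]
    have : ((if 1 ≤ j then (ee (j - 1) j b : ℤ) else 0) + (if 1 ≤ j then (ee j (j - 1) b : ℤ) else 0) -
        ee j j (b + 1) : ℤ) = 1 := by
      rw [if_pos (by omega), if_pos (by omega)]
      unfold ee
      omega
    rw [this, Int.cast_one]

end psl

end Cfsg.Agent.H139.CY
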